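import Groth.Agent.Lib.SerreSub19.Res
import Mathlib.Algebra.Homology.DerivedCategory.Fractions
import Mathlib.Algebra.Homology.DerivedCategory.TStructure
import Mathlib.Algebra.Homology.DerivedCategory.ExactFunctor
import Mathlib.CategoryTheory.Localization.CalculusOfFractions
import Mathlib.CategoryTheory.ObjectProperty.Kernels
import Mathlib.CategoryTheory.Abelian.Subcategory

/-! The bounded above derived category of a Serre subcategory. -/

set_option autoImplicit false
universe w w' v u

open CategoryTheory CategoryTheory.Limits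

namespace GrothLib.SerreSub19

variable {A : Type u} [Category.{v} A] [Abelian A] (P : ObjectProperty A) [P.IsSerreClass]
  [P.IsClosedUnderKernels] [P.IsClosedUnderCokernels] [P.IsClosedUnderFiniteProducts]
  [PreservesFiniteLimits P.ι] [PreservesFiniteColimits P.ι]

/-- The inclusion on complexes. -/
noncomputable abbrev inc : CochainComplex P.FullSubcategory ℤ ⥤ CochainComplex A ℤ :=
  P.ι.mapHomologicalComplex (ComplexShape.up ℤ)

/-- A complex with terms in `P` as a complex in the subcategory. -/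
noncomputable def toSub (K : CochainComplex A ℤ) (h : ∀ n, P (K.X n)) : CochainComplex P.FullSubcategory ℤ where
  X n := ⟨K.X n, h n⟩
  d i j := ObjectProperty.homMk (K.d i j)
  shape i j hij := ObjectProperty.hom_ext _ (K.shape i j hij)
  d_comp_d' i j k _ _ := ObjectProperty.hom_ext _ (K.d_comp_d i j k)

/-- The inclusion of the lifted complex is the original complex. -/
noncomputable def incToSub (K : CochainComplex A ℤ) (h : ∀ n, P (K.X n)) : (inc P).obj (toSub P K h) ≅ K :=
  HomologicalComplex.Hom.isoOfComponents (fun i => Iso.refl (K.X i))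
    (fun i j _ => (Category.id_comp _).trans (Category.comp_id _).symm)

theorem homotopy_of_inc {K L : CochainComplex P.FullSubcategory ℤ} (f g : K ⟶ L)
    (h : Homotopy ((inc P).map f) ((inc P).map g)) : Nonempty (Homotopy f g) :=
  ⟨{ hom := fun i j => ObjectProperty.homMk (h.hom i j)
     zero := fun i j hij => P.ι.map_injective ((h.zero i j hij).trans (P.ι.map_zero _ _).symm)
     comm := fun i => P.ι.map_injective (h.comm i) }⟩

theorem exists_map_inc {K L : CochainComplex P.FullSubcategory ℤ} (f : (inc P).obj K ⟶ (inc P).obj L) :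
    ∃ g : K ⟶ L, (inc P).map g = f :=
  ⟨{ f := fun i => ObjectProperty.homMk (f.f i)
     comm' := fun i j hij => P.ι.map_injective (f.comm i j) }, rfl⟩

theorem isStrictlyLE_inc (M : CochainComplex P.FullSubcategory ℤ) (b : ℤ) [M.IsStrictlyLE b] :
    ((inc P).obj M).IsStrictlyLE b :=
  (CochainComplex.isStrictlyLE_iff _ _).2 fun i hi => P.ι.map_isZero (M.isZero_of_isStrictlyLE b i hi)

theorem isStrictlyLE_toSub (K : CochainComplex A ℤ) (h : ∀ n, P (K.X n)) (b : ℤ) [K.IsStrictlyLE b] :
    (toSub P K h).IsStrictlyLE b := by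
  rw [CochainComplex.isStrictlyLE_iff]
  intro i hi
  rw [IsZero.iff_id_eq_zero]
  exact ObjectProperty.hom_ext _ ((K.isZero_of_isStrictlyLE b i hi).eq_of_src _ _)

theorem prop_homology_inc (M : CochainComplex P.FullSubcategory ℤ) (n : ℤ) :
    P (((inc P).obj M).homology n) :=
  P.prop_of_iso ((M.sc n).mapHomologyIso P.ι).symm (M.homology n).property

variable (hlift : ∀ (X Y : A) (π : X ⟶ Y), Epi π → P Y → ∃ (X' : A) (i : X' ⟶ X), Mono i ∧ P X' ∧ Epi (i ≫ π))

include hlift in
/-- A bounded above complex mapping by a quasi-isomorphism to a complex in `P` is refined by one in `P`. -/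
theorem exists_refine (Y : CochainComplex A ℤ) (b : ℤ) [Y.IsLE b] (hY : ∀ n, P (Y.homology n)) :
    ∃ (N : CochainComplex P.FullSubcategory ℤ) (φ : (inc P).obj N ⟶ Y), N.IsStrictlyLE b ∧ QuasiIso φ := by
  obtain ⟨Q, φ, hQb, hQP, hφ⟩ := exists_resolution P hlift Y hY b
    (fun n hn => (HomologicalComplex.exactAt_iff_isZero_homology _ _).1 (Y.exactAt_of_isLE b n hn))
  exact ⟨toSub P Q hQP, (incToSub P Q hQP).hom ≫ φ, isStrictlyLE_toSub P Q hQP b, inferInstance⟩

section Derived

open DerivedCategory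

variable [HasDerivedCategory.{w} A] [HasDerivedCategory.{w'} P.FullSubcategory]

theorem quasiIso_of_inc {K L : CochainComplex P.FullSubcategory ℤ} (f : K ⟶ L) [QuasiIso ((inc P).map f)] :
    QuasiIso f :=
  (HomologicalComplex.quasiIso_map_iff_of_preservesHomology f P.ι).1 inferInstance

theorem map_inc_Q {K L : CochainComplex P.FullSubcategory ℤ} (f : K ⟶ L) :
    P.ι.mapDerivedCategory.map (Q.map f) =
      P.ι.mapDerivedCategoryFactors.hom.app K ≫ Q.map ((inc P).map f) ≫ P.ι.mapDerivedCategoryFactors.inv.app L := by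
  have h := P.ι.mapDerivedCategoryFactors.hom.naturality f
  simp only [Functor.comp_map] at h
  rw [← reassoc_of% h]
  simp

include hlift in
theorem surjective_map (M N : CochainComplex P.FullSubcategory ℤ) (b : ℤ) [M.IsStrictlyLE b]
    (φ : P.ι.mapDerivedCategory.obj (Q.obj M) ⟶ P.ι.mapDerivedCategory.obj (Q.obj N)) :
    ∃ ψ : Q.obj M ⟶ Q.obj N, P.ι.mapDerivedCategory.map ψ = φ := by
  have := isStrictlyLE_inc P M b
  obtain ⟨X, hX, s, hs, g, hφ⟩ := right_fac_of_isStrictlyLE (P.ι.mapDerivedCategoryFactors.inv.app M ≫ φ ≫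
    P.ι.mapDerivedCategoryFactors.hom.app N : Q.obj ((inc P).obj M) ⟶ Q.obj ((inc P).obj N)) b
  have hqs : QuasiIso s := (isIso_Q_map_iff_quasiIso (φ := s)).1 hs
  obtain ⟨X', r, hX', hr⟩ := exists_refine P hlift X b (fun n =>
    P.prop_of_iso (asIso (HomologicalComplex.homologyMap s n)).symm (prop_homology_inc P M n))
  obtain ⟨s', hs'⟩ := exists_map_inc P (r ≫ s)
  obtain ⟨g', hg'⟩ := exists_map_inc P (r ≫ g)
  have : QuasiIso ((inc P).map s') := by rw [hs']; infer_instance
  have := quasiIso_of_inc P s'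
  refine ⟨inv (Q.map s') ≫ Q.map g', ?_⟩
  rw [Functor.map_comp, Functor.map_inv, IsIso.inv_comp_eq, map_inc_Q, map_inc_Q, hs', hg']
  have e : φ = P.ι.mapDerivedCategoryFactors.hom.app M ≫ (inv (Q.map s) ≫ Q.map g) ≫
      P.ι.mapDerivedCategoryFactors.inv.app N := by
    rw [← hφ]
    simp
  rw [e]
  simp

include hlift in
theorem injective_map (M N : CochainComplex P.FullSubcategory ℤ) (b : ℤ) [M.IsStrictlyLE b]
    (ψ : Q.obj M ⟶ Q.obj N) (h0 : P.ι.mapDerivedCategory.map ψ = 0) : ψ = 0 := by
  obtain ⟨X, hX, s, hs, g, rfl⟩ := right_fac_of_isStrictlyLE ψ b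
  suffices Q.map g = 0 by rw [this, comp_zero]
  have h1 : Q.map ((inc P).map g) = 0 := by
    have h := congrArg (fun z => P.ι.mapDerivedCategory.map (Q.map s) ≫ z) h0
    simp only [← Functor.map_comp, IsIso.hom_inv_id_assoc, comp_zero] at h
    rw [map_inc_Q] at h
    have h2 := congrArg (fun z => P.ι.mapDerivedCategoryFactors.inv.app X ≫ z ≫
      P.ι.mapDerivedCategoryFactors.hom.app N) h
    simpa using h2
  have := isStrictlyLE_inc P X b
  have h2 : Qh.map ((HomotopyCategory.quotient A (ComplexShape.up ℤ)).map ((inc P).map g)) =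
      Qh.map ((HomotopyCategory.quotient A (ComplexShape.up ℤ)).map 0) := by
    rw [← cancel_mono ((quotientCompQhIso A).hom.app _)]
    refine ((quotientCompQhIso A).hom.naturality ((inc P).map g)).trans
      (Eq.trans ?_ ((quotientCompQhIso A).hom.naturality 0).symm)
    rw [h1, Functor.map_zero]
  obtain ⟨Y, t, ht, heq⟩ := (MorphismProperty.map_eq_iff_precomp Qh
    (HomotopyCategory.quasiIso A (ComplexShape.up ℤ)) _ _).1 h2
  obtain ⟨Y, rfl⟩ := HomotopyCategory.quotient_obj_surjective Y
  obtain ⟨t, rfl⟩ := (HomotopyCategory.quotient A (ComplexShape.up ℤ)).map_surjective t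
  rw [HomotopyCategory.quotient_map_mem_quasiIso_iff] at ht
  have hqt : QuasiIso t := ht
  have : CochainComplex.IsLE Y b := (CochainComplex.isLE_iff Y b).2 fun i hi => by
    rw [HomologicalComplex.exactAt_iff_isZero_homology]
    exact IsZero.of_iso ((HomologicalComplex.exactAt_iff_isZero_homology _ _).1
      (((inc P).obj X).exactAt_of_isLE b i hi)) (asIso (HomologicalComplex.homologyMap t i))
  obtain ⟨Y', r, hY', hr⟩ := exists_refine P hlift Y b (fun n =>
    P.prop_of_iso (asIso (HomologicalComplex.homologyMap t n)).symm (prop_homology_inc P X n))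
  obtain ⟨t', ht'⟩ := exists_map_inc P (r ≫ t)
  have : QuasiIso ((inc P).map t') := by rw [ht']; infer_instance
  have := quasiIso_of_inc P t'
  obtain ⟨H⟩ := homotopy_of_inc P (t' ≫ g) 0
    (HomotopyCategory.homotopyOfEq _ _ (by
      rw [Functor.map_comp, ht', Category.assoc, Functor.map_comp, Functor.map_comp, heq, Functor.map_zero,
        Functor.map_zero, Functor.map_zero, comp_zero, comp_zero]))
  have e : Q.map (t' ≫ g) = Q.map (0 : Y' ⟶ N) := by
    rw [← cancel_epi ((quotientCompQhIso _).hom.app Y'), ← (quotientCompQhIso _).hom.naturality,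
      ← (quotientCompQhIso _).hom.naturality]
    change Qh.map ((HomotopyCategory.quotient _ _).map (t' ≫ g)) ≫ _ =
      Qh.map ((HomotopyCategory.quotient _ _).map 0) ≫ _
    rw [HomotopyCategory.eq_of_homotopy _ _ H]
  rw [Functor.map_comp, Functor.map_zero] at e
  rw [← cancel_epi (Q.map t'), e, comp_zero]

include hlift in
theorem bijective_map (M N : DerivedCategory P.FullSubcategory) (b : ℤ) [M.IsLE b] :
    Function.Bijective (fun φ : M ⟶ N => P.ι.mapDerivedCategory.map φ) := by
  obtain ⟨M₀, hM₀, ⟨eM⟩⟩ := DerivedCategory.exists_iso_Q_obj_of_isLE M b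
  let eN := (Q.objObjPreimageIso N).symm
  constructor
  · intro φ φ' h
    have h0 : P.ι.mapDerivedCategory.map (eM.inv ≫ (φ - φ') ≫ eN.hom) = 0 := by
      simp only [Functor.map_comp, Functor.map_sub]
      rw [show P.ι.mapDerivedCategory.map φ = P.ι.mapDerivedCategory.map φ' from h, sub_self, zero_comp, comp_zero]
    have h1 := injective_map P hlift M₀ _ b _ h0
    have h2 := congrArg (fun z => eM.hom ≫ z ≫ eN.inv) h1
    simp only [Category.assoc, Iso.hom_inv_id_assoc, Iso.hom_inv_id, Category.comp_id, zero_comp, comp_zero] at h2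
    exact sub_eq_zero.1 h2
  · intro φ
    obtain ⟨ψ, hψ⟩ := surjective_map P hlift M₀ _ b
      (P.ι.mapDerivedCategory.map eM.inv ≫ φ ≫ P.ι.mapDerivedCategory.map eN.hom)
    refine ⟨eM.hom ≫ ψ ≫ eN.inv, ?_⟩
    simp [hψ]

include hlift in
theorem exists_preimage (K : DerivedCategory A) (b : ℤ) [K.IsLE b]
    (hK : ∀ n : ℤ, P ((homologyFunctor A n).obj K)) :
    ∃ M : DerivedCategory P.FullSubcategory, M.IsLE b ∧ Nonempty (P.ι.mapDerivedCategory.obj M ≅ K) := by
  obtain ⟨K₀, hK₀, ⟨e⟩⟩ := DerivedCategory.exists_iso_Q_obj_of_isLE K b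
  obtain ⟨M, φ, hM, hφ⟩ := exists_refine P hlift K₀ b (fun n => P.prop_of_iso
    ((homologyFunctor A n).mapIso e ≪≫ (homologyFunctorFactors A n).app K₀) (hK n))
  exact ⟨Q.obj M, inferInstance, ⟨P.ι.mapDerivedCategoryFactors.app M ≪≫ asIso (Q.map φ) ≪≫ e.symm⟩⟩

end Derived

end GrothLib.SerreSub19
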