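import Mathlib.Algebra.Homology.Refinements
import Mathlib.Algebra.Homology.QuasiIso
import Mathlib.Algebra.Homology.HomologicalComplexAbelian
import Mathlib.Algebra.Homology.Embedding.CochainComplex
import Mathlib.CategoryTheory.Abelian.SerreClass.Basic
import Mathlib.CategoryTheory.Abelian.Refinements

/-!
A bounded above complex with homology in a Serre class `P`, such that epimorphisms onto objects of `P`
can be restricted to objects of `P`, receives a quasi-isomorphism from a complex with terms in `P`.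
-/

set_option autoImplicit false
universe v u
open CategoryTheory CategoryTheory.Limits

namespace GrothLib.SerreSub19

variable {A : Type u} [Category.{v} A] [Abelian A] (P : ObjectProperty A) [P.IsSerreClass]
  (hlift : ∀ (X Y : A) (π : X ⟶ Y), Epi π → P Y → ∃ (X' : A) (i : X' ⟶ X), Mono i ∧ P X' ∧ Epi (i ≫ π))

variable (K : CochainComplex A ℤ)

/-- The cocycles already constructed. -/
structure St (n : ℤ) where
  /-- The object. -/
  C : A
  hC : P C
  /-- The map to the cycles. -/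
  c : C ⟶ K.cycles n
  epi : Epi (c ≫ K.homologyπ n)

/-- The next degree. -/
structure Nx {n : ℤ} (T : St P K (n + 1)) where
  /-- The object. -/
  X : A
  hX : P X
  /-- The map to the complex. -/
  α : X ⟶ K.X n
  /-- The differential, with values in the cocycles. -/
  dd : X ⟶ T.C
  sq : α ≫ K.toCycles n (n + 1) = dd ≫ T.c
  exact : ∀ ⦃B : A⦄ (y : B ⟶ T.C), y ≫ T.c ≫ K.homologyπ (n + 1) = 0 →
    ∃ (B' : A) (π : B' ⟶ B) (_ : Epi π) (x : B' ⟶ X), π ≫ y = x ≫ dd
  ker : ∀ ⦃B : A⦄ (h : B ⟶ K.homology n), ∃ (B' : A) (π : B' ⟶ B) (_ : Epi π) (x : B' ⟶ X) (z : B' ⟶ K.cycles n),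
    x ≫ dd = 0 ∧ x ≫ α = z ≫ K.iCycles n ∧ π ≫ h = z ≫ K.homologyπ n
  zero : IsZero T.C → IsZero (K.homology n) → IsZero X

variable {P K}

variable (hH : ∀ n, P (K.homology n))

include hlift hH in
theorem exists_next {n : ℤ} (T : St P K (n + 1)) : Nonempty (Nx P K T) := by
  classical
  by_cases h0 : IsZero T.C ∧ IsZero (K.homology n)
  · obtain ⟨Z, hZ, hPZ⟩ := P.exists_prop_of_containsZero
    exact ⟨⟨Z, hPZ, 0, 0, hZ.eq_of_src _ _,
      fun B y _ => ⟨B, 𝟙 B, inferInstance, 0, h0.1.eq_of_tgt _ _⟩,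
      fun B h => ⟨B, 𝟙 B, inferInstance, 0, 0, zero_comp, zero_comp.trans zero_comp.symm, h0.2.eq_of_tgt _ _⟩,
      fun _ _ => hZ⟩⟩
  let W := pullback (K.toCycles n (n + 1)) T.c
  have hw : (pullback.snd (K.toCycles n (n + 1)) T.c) ≫ T.c ≫ K.homologyπ (n + 1) = 0 := by
    rw [← pullback.condition_assoc, HomologicalComplex.toCycles_comp_homologyπ, comp_zero]
  let q : W ⟶ kernel (T.c ≫ K.homologyπ (n + 1)) := kernel.lift _ _ hw
  have hq : Epi q := by
    rw [epi_iff_surjective_up_to_refinements]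
    intro B e
    obtain ⟨B', π, hπ, k, hk⟩ := (K.comp_homologyπ_eq_zero_iff_up_to_refinements n (n + 1) (by simp)
      (e ≫ kernel.ι _ ≫ T.c)).1 (by simp [kernel.condition])
    refine ⟨B', π, hπ, pullback.lift k (π ≫ e ≫ kernel.ι _) (by simpa [Category.assoc] using hk.symm), ?_⟩
    rw [← cancel_mono (kernel.ι _)]
    simp only [q, Category.assoc, kernel.lift_ι]
    exact (pullback.lift_snd _ _ _).symm
  obtain ⟨X₁, i₁, _, hX₁, he₁⟩ := hlift _ _ q hq (P.prop_of_mono (kernel.ι (T.c ≫ K.homologyπ (n + 1))) T.hC)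
  obtain ⟨X₂, i₂, _, hX₂, he₂⟩ := hlift _ _ (K.homologyπ n) inferInstance (hH n)
  refine ⟨⟨X₁ ⊞ X₂, P.prop_X₂_of_shortExact (ShortComplex.Splitting.ofHasBinaryBiproduct X₁ X₂).shortExact hX₁ hX₂,
    biprod.desc (i₁ ≫ pullback.fst _ _) (i₂ ≫ K.iCycles n),
    biprod.desc (i₁ ≫ pullback.snd _ _) 0, ?_, fun B y hy => ?_, fun B h => ?_, fun a b => absurd ⟨a, b⟩ h0⟩⟩
  · apply biprod.hom_ext'
    · simp [pullback.condition]
    · rw [biprod.inr_desc_assoc, biprod.inr_desc_assoc, zero_comp, ← cancel_mono (K.iCycles (n + 1))]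
      simp
  · obtain ⟨B', π, hπ, x, hx⟩ := surjective_up_to_refinements_of_epi (i₁ ≫ q) (kernel.lift _ y hy)
    refine ⟨B', π, hπ, x ≫ biprod.inl, ?_⟩
    have := congrArg (· ≫ kernel.ι _) hx
    simpa [q] using this
  · obtain ⟨B', π, hπ, x, hx⟩ := surjective_up_to_refinements_of_epi (i₂ ≫ K.homologyπ n) h
    exact ⟨B', π, hπ, x ≫ biprod.inr, x ≫ i₂, by simp, by simp, by simpa using hx⟩

variable (P K) (b : ℤ)
variable (nx : ∀ (n : ℤ) (T : St P K (n + 1)), Nx P K T) (hb : ∀ n, b < n → IsZero (K.homology n))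

/-- A state in high degree. -/
noncomputable def zeroSt (n : ℤ) (hn : b < n) : St P K n where
  C := P.exists_prop_of_containsZero.choose
  hC := P.exists_prop_of_containsZero.choose_spec.2
  c := 0
  epi := ⟨fun _ _ _ => (hb n hn).eq_of_src _ _⟩

/-- The kernel state. -/
noncomputable def step {n : ℤ} {T : St P K (n + 1)} (N : Nx P K T) : St P K n where
  C := kernel N.dd
  hC := P.prop_of_mono (kernel.ι N.dd) N.hX
  c := K.liftCycles (kernel.ι N.dd ≫ N.α) (n + 1) (by simp) (by
    rw [Category.assoc, ← K.toCycles_i n (n + 1), reassoc_of% N.sq, kernel.condition_assoc, zero_comp])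
  epi := by
    rw [epi_iff_surjective_up_to_refinements]
    intro B h
    obtain ⟨B', π, hπ, x, z, hx, hxz, hz⟩ := N.ker h
    refine ⟨B', π, hπ, kernel.lift _ x hx, ?_⟩
    rw [hz, ← Category.assoc]
    congr 1
    rw [← cancel_mono (K.iCycles n)]
    simp [hxz]

/-- The states. -/
noncomputable def R (n : ℤ) : St P K n :=
  if h : b < n then zeroSt P K b hb n h else step P K (nx n (R (n + 1)))
termination_by (b + 1 - n).toNat
decreasing_by omega

theorem isZero_C (n : ℤ) (hn : b < n) : IsZero (R P K b nx hb n).C := by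
  rw [R, dif_pos hn]
  exact P.exists_prop_of_containsZero.choose_spec.1

theorem isZero_X (n : ℤ) (hn : b < n) : IsZero (nx n (R P K b nx hb (n + 1))).X :=
  (nx n _).zero (isZero_C P K b nx hb (n + 1) (by omega)) (hb n hn)

theorem exists_link (n : ℤ) :
    ∃ ι : (R P K b nx hb (n + 1)).C ⟶ (nx (n + 1) (R P K b nx hb (n + 1 + 1))).X,
      ι ≫ (nx (n + 1) (R P K b nx hb (n + 1 + 1))).dd = 0 ∧
      ι ≫ (nx (n + 1) (R P K b nx hb (n + 1 + 1))).α = (R P K b nx hb (n + 1)).c ≫ K.iCycles (n + 1) ∧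
      Mono ι ∧
      ∀ {B : A} (x : B ⟶ (nx (n + 1) (R P K b nx hb (n + 1 + 1))).X),
        x ≫ (nx (n + 1) (R P K b nx hb (n + 1 + 1))).dd = 0 → ∃ y, y ≫ ι = x := by
  by_cases h : b < n + 1
  · have hX := isZero_X P K b nx hb (n + 1) h
    have hC := isZero_C P K b nx hb (n + 1) h
    exact ⟨0, zero_comp, hC.eq_of_src _ _, ⟨fun _ _ _ => hC.eq_of_tgt _ _⟩,
      fun x _ => ⟨0, hX.eq_of_tgt _ _⟩⟩
  · rw [show R P K b nx hb (n + 1) = step P K (nx (n + 1) (R P K b nx hb (n + 1 + 1))) by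
      conv_lhs => rw [R, dif_neg h]]
    generalize nx (n + 1) (R P K b nx hb (n + 1 + 1)) = S
    exact ⟨kernel.ι S.dd, kernel.condition _, (show _ = (step P K S).c ≫ K.iCycles (n + 1) by simp [step] <;> rfl),
      equalizer.ι_mono, fun x hx => ⟨kernel.lift _ x hx, kernel.lift_ι _ _ _⟩⟩

include hlift hH hb in
theorem exists_resolution :
    ∃ (Q : CochainComplex A ℤ) (φ : Q ⟶ K), Q.IsStrictlyLE b ∧ (∀ n, P (Q.X n)) ∧ QuasiIso φ := by
  let nx := fun (n : ℤ) (T : St P K (n + 1)) => (exists_next hlift hH T).some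
  let T : ∀ n, St P K (n + 1) := fun n => R P K b nx hb (n + 1)
  let N : ∀ n, Nx P K (T n) := fun n => nx n (T n)
  choose ι hι₁ hι₂ hι₃ hι₄ using exists_link P K b nx hb
  let d : ∀ n, (N n).X ⟶ (N (n + 1)).X := fun n => (N n).dd ≫ ι n
  have hd : ∀ n, d n ≫ d (n + 1) = 0 := fun n => by
    simp only [d, N, T, Category.assoc, reassoc_of% (hι₁ n), zero_comp, comp_zero]
  let Q : CochainComplex A ℤ := CochainComplex.of (fun n => (N n).X) d hd
  let φ : Q ⟶ K :=
    { f := fun n => (N n).α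
      comm' := fun i j hij => by
        obtain rfl : i + 1 = j := hij
        have e : Q.d i (i + 1) = d i := CochainComplex.of_d (X := fun n => (N n).X) (d := d) i
        rw [e, ← K.toCycles_i i (i + 1), reassoc_of% (N i).sq]
        exact ((congrArg ((N i).dd ≫ ·) (hι₂ i)).symm.trans (Category.assoc _ _ _).symm) }
  refine ⟨Q, φ, ?_, fun n => (N n).hX, ⟨fun j => ?_⟩⟩
  · rw [CochainComplex.isStrictlyLE_iff]
    exact fun i hi => isZero_X P K b nx hb i hi
  obtain ⟨n, rfl⟩ : ∃ n, j = n + 1 := ⟨j - 1, by omega⟩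
  rw [quasiIsoAt_iff_isIso_homologyMap]
  have hQd : ∀ n, Q.d n (n + 1) = (N n).dd ≫ ι n := fun n => CochainComplex.of_d (X := fun n => (N n).X) (d := d) n
  have hker : ∀ {B : A} (x : B ⟶ Q.X (n + 1)), x ≫ Q.d (n + 1) (n + 1 + 1) = 0 →
      ∃ y, y ≫ ι n = x := fun x hx => hι₄ n x (by
    have : Mono (ι (n + 1)) := hι₃ _
    rw [hQd] at hx
    exact (cancel_mono (ι (n + 1))).1 (((Category.assoc _ _ _).trans hx).trans zero_comp.symm))
  have : Mono (HomologicalComplex.homologyMap φ (n + 1)) := by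
    rw [HomologicalComplex.mono_homologyMap_iff_up_to_refinements φ n (n + 1) (n + 1 + 1) (by simp) (by simp)]
    intro B x hx k hk
    obtain ⟨y, rfl⟩ := hker x hx
    have hy : y ≫ (T n).c ≫ K.homologyπ (n + 1) = 0 := by
      have e : y ≫ (T n).c = k ≫ K.toCycles n (n + 1) := by
        rw [← cancel_mono (K.iCycles (n + 1)), Category.assoc, Category.assoc, K.toCycles_i, ← hk, ← hι₂ n]
        exact (Category.assoc _ _ _).symm
      rw [reassoc_of% e, HomologicalComplex.toCycles_comp_homologyπ, comp_zero]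
    obtain ⟨B', π, hπ, q, hq⟩ := (N n).exact y hy
    refine ⟨B', π, hπ, q, ?_⟩
    rw [hQd, reassoc_of% hq]
  have : Epi (HomologicalComplex.homologyMap φ (n + 1)) := by
    rw [HomologicalComplex.epi_homologyMap_iff_up_to_refinements φ n (n + 1) (n + 1 + 1) (by simp) (by simp)]
    intro B z hz
    have := (T n).epi
    obtain ⟨B', π, hπ, y, hy⟩ := surjective_up_to_refinements_of_epi ((T n).c ≫ K.homologyπ (n + 1))
      (K.liftCycles z (n + 1 + 1) (by simp) hz ≫ K.homologyπ (n + 1))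
    rw [← Category.assoc y, ← Category.assoc, K.comp_homologyπ_eq_iff_up_to_refinements n (n + 1) (by simp)] at hy
    obtain ⟨B'', π', hπ', k, hk⟩ := hy
    refine ⟨B'', π' ≫ π, inferInstance, π' ≫ y ≫ ι n, ?_, k, ?_⟩
    · rw [hQd, Category.assoc, Category.assoc, reassoc_of% (hι₁ n), zero_comp, comp_zero, comp_zero]
    · have := congrArg (· ≫ K.iCycles (n + 1)) hk
      simp only [Category.assoc, Preadditive.add_comp, HomologicalComplex.liftCycles_i,
        HomologicalComplex.toCycles_i, ← hι₂ n] at this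
      rw [Category.assoc, this, Category.assoc, Category.assoc, ← hι₂ n]
  exact isIso_of_mono_of_epi _

end GrothLib.SerreSub19
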